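import Mathlib
import Groth.Agent.Lib.Helper24.FibHom.OpenImm
import Groth.Agent.Lib.Helper24.NFT.Neutral

/-!
# Helper24 — a smooth subgroup with connected fibres representing the neutral component
(SGA3 VI_B 3.?, used for S5393)
-/

set_option autoImplicit false
universe u

open CategoryTheory MonoidalCategory CartesianMonoidalCategory MonObj GrpObj AlgebraicGeometry Limits

namespace Groth.Agent.Lib.Helper24.NeutRep

open Groth.Agent.Lib.Helper24.HomogSep Groth.Agent.Lib.Helper24.NFT Groth.Agent.Lib.Helper24.FibHom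

variable {S : Scheme.{u}} {H N : Over S} [GrpObj H] [GrpObj N]

/-- a group with connected fibres is its own neutral set -/
theorem neutralSet_eq_univ (hconn : ∀ s : S, _root_.IsConnected (H.hom.base ⁻¹' {s})) :
    SGA3x.neutralSet H = Set.univ := by
  rw [Set.eq_univ_iff_forall]
  intro x
  rw [mem_neutralSet_iff]
  obtain ⟨p, hp⟩ := exists_unit_point (S := S) (H.hom.base x)
  refine ⟨p, hp, ?_⟩
  have hmem : η[H].left.base p ∈ H.hom.base ⁻¹' {H.hom.base x} := by
    change H.hom.base (η[H].left.base p) = _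
    rw [← Scheme.Hom.comp_apply, Over.w η[H], hp]
  rw [(hconn (H.hom.base x)).isPreconnected.connectedComponentIn hmem]
  exact rfl

/-- the range of an open immersion homomorphism from a group with connected fibres is the neutral
set -/
theorem range_eq_neutralSet [LocallyOfFinitePresentation H.hom] [LocallyOfFiniteType N.hom]
    (hconn : ∀ s : S, _root_.IsConnected (H.hom.base ⁻¹' {s})) (j : H ⟶ N) [IsMonHom j]
    [IsOpenImmersion j.left] : Set.range j.left.base = SGA3x.neutralSet N := by
  have h1 := image_neutralSet_subset j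
  have h2 := neutralSet_subset_image_of_flat j
  rw [neutralSet_eq_univ hconn, Set.image_univ] at h1 h2
  exact subset_antisymm h1 h2

/-- (i) ⇒ (ii) -/
theorem factors_iff_of_isOpenImmersion [LocallyOfFinitePresentation H.hom]
    [LocallyOfFiniteType N.hom]
    (hconn : ∀ s : S, _root_.IsConnected (H.hom.base ⁻¹' {s})) (j : H ⟶ N) [IsMonHom j]
    [IsOpenImmersion j.left] (T : Over S) (g : T ⟶ N) :
    (∃ h : T ⟶ H, h ≫ j = g) ↔ Set.range g.left.base ⊆ SGA3x.neutralSet N := by
  rw [← range_eq_neutralSet hconn j]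
  constructor
  · rintro ⟨h, rfl⟩
    rw [Over.comp_left, Scheme.Hom.comp_base, TopCat.coe_comp]
    exact Set.range_comp_subset_range _ _
  · intro hg
    refine ⟨Over.homMk (IsOpenImmersion.lift j.left g.left hg) ?_, ?_⟩
    · rw [← Over.w j, ← Category.assoc, IsOpenImmersion.lift_fac, Over.w g]
    · ext
      simp [IsOpenImmersion.lift_fac]

/-- (i) ⇒ (iii) -/
theorem fibres_of_isOpenImmersion [LocallyOfFinitePresentation H.hom]
    [LocallyOfFiniteType N.hom]
    (hconn : ∀ s : S, _root_.IsConnected (H.hom.base ⁻¹' {s})) (j : H ⟶ N) [IsMonHom j]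
    [IsOpenImmersion j.left] (s : S) :
    IsOpenImmersion ((Over.pullback (S.fromSpecResidueField s)).map j).left ∧
      j.left.base '' (H.hom.base ⁻¹' {s}) = SGA3x.neutralSet N ∩ N.hom.base ⁻¹' {s} := by
  refine ⟨MorphismProperty.of_isPullback (P := @IsOpenImmersion)
    (isPullback_pullback_map (gs s) j).flip inferInstance, ?_⟩
  rw [← range_eq_neutralSet hconn j]
  ext y
  constructor
  · rintro ⟨x, hx, rfl⟩
    refine ⟨⟨x, rfl⟩, ?_⟩
    change N.hom.base (j.left.base x) = s
    rw [← Scheme.Hom.comp_apply, Over.w j]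
    exact hx
  · rintro ⟨⟨x, rfl⟩, hy⟩
    refine ⟨x, ?_, rfl⟩
    change H.hom.base x = s
    rw [← Over.w j, Scheme.Hom.comp_apply]
    exact hy

/-- (iii) ⇒ (i) -/
theorem isOpenImmersion_of_fibres [Flat H.hom] [LocallyOfFinitePresentation H.hom]
    [LocallyOfFiniteType N.hom] (j : H ⟶ N) [IsMonHom j] [Mono j]
    (h : ∀ s : S, IsOpenImmersion ((Over.pullback (S.fromSpecResidueField s)).map j).left) :
    IsOpenImmersion j.left := by
  haveI : Mono j.left := inferInstance
  haveI : UniversallyInjective j.left := inferInstance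
  have h1 := (main_openImmersion j).2 ⊤ (fun s _ => h s)
  have h2 : IsIso (H.hom ⁻¹ᵁ (⊤ : S.Opens)).ι := by
    rw [Scheme.Hom.preimage_top]
    exact inferInstanceAs (IsIso H.left.topIso.hom)
  have : j.left = inv (H.hom ⁻¹ᵁ (⊤ : S.Opens)).ι ≫ ((H.hom ⁻¹ᵁ (⊤ : S.Opens)).ι ≫ j.left) := by
    rw [IsIso.inv_hom_id_assoc]
  rw [this]
  infer_instance

end Groth.Agent.Lib.Helper24.NeutRep
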