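import Mathlib
import Groth.Agent.Lib.Helper24.NeutRep.Basic

/-!
# Helper24 — (ii) ⇒ (iii): a subgroup representing the neutral component is fibrewise the open
unit component
-/

set_option autoImplicit false
universe u

open CategoryTheory MonoidalCategory CartesianMonoidalCategory MonObj GrpObj AlgebraicGeometry Limits

namespace Groth.Agent.Lib.Helper24.NeutRep

open Groth.Agent.Lib.Helper24.HomogSep Groth.Agent.Lib.Helper24.NFT Groth.Agent.Lib.Helper24.FibHom

variable {S : Scheme.{u}} {H N : Over S} [GrpObj H] [GrpObj N]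

/-- a point of `N` over `s` lies in the neutral set iff it comes from the unit component of the
fibre -/
theorem mem_neutralSet_iff_fib (s : S) (pt : ↥(𝟙_ (Over (Spec (CommRingCat.of (resκ s))))).left)
    (y : N.left) (hy : N.hom.base y = s) :
    y ∈ SGA3x.neutralSet N ↔
      y ∈ (pullback.fst N.hom (gs s)).base '' connectedComponent (η[fib N s].left.base pt) := by
  obtain ⟨p, hp⟩ := exists_unit_point (S := S) s
  rw [image_unitComponent_fib N s pt p hp, mem_neutralSet_iff]
  subst hy
  constructor
  · rintro ⟨p', hp', h⟩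
    have : p' = p := unit_hom_injective (hp'.trans hp.symm)
    subst this
    exact h
  · intro h
    exact ⟨p, hp, h⟩

/-- (ii) ⇒ (iii) -/
theorem fibres_of_represents [LocallyOfFiniteType N.hom] (j : H ⟶ N) [IsMonHom j] [Mono j]
    (hrep : ∀ (T : Over S) (g : T ⟶ N),
      (∃ h : T ⟶ H, h ≫ j = g) ↔ Set.range g.left.base ⊆ SGA3x.neutralSet N) (s : S) :
    IsOpenImmersion ((Over.pullback (S.fromSpecResidueField s)).map j).left ∧
      j.left.base '' (H.hom.base ⁻¹' {s}) = SGA3x.neutralSet N ∩ N.hom.base ⁻¹' {s} := by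
  have hne : Nonempty ↥(𝟙_ (Over (Spec (CommRingCat.of (resκ s))))).left :=
    inferInstanceAs (Nonempty (PrimeSpectrum (resκ s)))
  obtain ⟨pt⟩ := hne
  haveI : LocallyOfFiniteType (fib N s).hom :=
    inferInstanceAs (LocallyOfFiniteType (pullback.snd N.hom (gs s)))
  -- the range of `j` lies in the neutral set
  have hrange : Set.range j.left.base ⊆ SGA3x.neutralSet N :=
    (hrep H j).1 ⟨𝟙 H, Category.id_comp j⟩
  -- the open unit component of the fibre
  obtain ⟨O, hO⟩ : ∃ O : (fib N s).left.Opens,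
      (O : Set (fib N s).left) = connectedComponent (η[fib N s].left.base pt) :=
    ⟨⟨irreducibleComponent (η[fib N s].left.base pt), isOpen_unitComponent pt⟩,
      (connectedComponent_unit pt).symm⟩
  -- the point `g` of `N` with values in `O`
  let T : Over S := Over.mk (O.ι ≫ pullback.fst N.hom (gs s) ≫ N.hom)
  let g : T ⟶ N := Over.homMk (O.ι ≫ pullback.fst N.hom (gs s)) (by simp [T])
  have hg : Set.range g.left.base ⊆ SGA3x.neutralSet N := by
    rintro _ ⟨z, rfl⟩
    have hz : N.hom.base (g.left.base z) = s := hom_fst_fib (G := N) s (O.ι.base z)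
    rw [mem_neutralSet_iff_fib s pt _ hz]
    refine ⟨O.ι.base z, ?_, rfl⟩
    rw [← hO]
    exact z.2
  obtain ⟨h, hh⟩ := (hrep T g).2 hg
  have hh' : h.left ≫ j.left = O.ι ≫ pullback.fst N.hom (gs s) := by
    have := congrArg (fun φ => φ.left) hh
    exact this
  -- the fibre map
  have sq := isPullback_pullback_map (gs s) j
  obtain ⟨js, hjs⟩ : ∃ js, js = ((Over.pullback (gs s)).map j).left := ⟨_, rfl⟩
  rw [← hjs] at sq
  have hjs2 : js ≫ pullback.snd N.hom (gs s) = pullback.snd H.hom (gs s) := by
    rw [hjs]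
    exact Over.w ((Over.pullback (gs s)).map j)
  haveI hmonoj : Mono j.left := inferInstance
  haveI hmono : Mono js :=
    MorphismProperty.of_isPullback (P := MorphismProperty.monomorphisms Scheme.{u}) sq.flip hmonoj
  -- the section over `O`
  let σ : O.toScheme ⟶ pullback H.hom (gs s) :=
    pullback.lift h.left (O.ι ≫ pullback.snd N.hom (gs s)) (by
      have h1 : h.left ≫ H.hom = O.ι ≫ pullback.fst N.hom (gs s) ≫ N.hom := Over.w h
      rw [h1, Category.assoc, pullback.condition])
  have hσ : σ ≫ js = O.ι := by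
    apply pullback.hom_ext
    · rw [Category.assoc, sq.w, ← Category.assoc, pullback.lift_fst, hh']
    · rw [Category.assoc, hjs2, pullback.lift_snd]
  -- the range of `js` lies in `O`
  have hjsO : Set.range js.base ⊆ Set.range O.ι.base := by
    rw [Scheme.Opens.range_ι, hO]
    rintro _ ⟨z, rfl⟩
    have hz : N.hom.base ((pullback.fst N.hom (gs s)).base (js.base z)) = s :=
      hom_fst_fib (G := N) s _
    have hmem : (pullback.fst N.hom (gs s)).base (js.base z) ∈ SGA3x.neutralSet N := by
      rw [← Scheme.Hom.comp_apply, sq.w, Scheme.Hom.comp_apply]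
      exact hrange ⟨_, rfl⟩
    rw [mem_neutralSet_iff_fib s pt _ hz] at hmem
    obtain ⟨z', hz', hzz'⟩ := hmem
    have hinj : Function.Injective (pullback.fst N.hom (gs s)).base :=
      (N.hom.fiberι s).isEmbedding.injective
    rw [← hinj hzz']
    exact hz'
  let τ : pullback H.hom (gs s) ⟶ O.toScheme := IsOpenImmersion.lift O.ι js hjsO
  have hτ : τ ≫ O.ι = js := IsOpenImmersion.lift_fac _ _ _
  have h1 : τ ≫ σ = 𝟙 _ := by
    rw [← cancel_mono js, Category.assoc, hσ, hτ, Category.id_comp]
  have h2 : σ ≫ τ = 𝟙 _ := by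
    rw [← cancel_mono O.ι, Category.assoc, hτ, hσ, Category.id_comp]
  haveI : IsIso τ := ⟨σ, h1, h2⟩
  refine ⟨?_, ?_⟩
  · change IsOpenImmersion ((Over.pullback (gs s)).map j).left
    rw [← hjs, ← hτ]
    infer_instance
  · ext y
    constructor
    · rintro ⟨x, hx, rfl⟩
      refine ⟨hrange ⟨x, rfl⟩, ?_⟩
      change N.hom.base (j.left.base x) = s
      rw [← Scheme.Hom.comp_apply, Over.w j]
      exact hx
    · rintro ⟨hy1, hy2⟩
      rw [mem_neutralSet_iff_fib s pt y hy2] at hy1
      obtain ⟨z, hz, rfl⟩ := hy1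
      rw [← hO] at hz
      refine ⟨h.left.base ⟨z, hz⟩, ?_, ?_⟩
      · change H.hom.base (h.left.base ⟨z, hz⟩) = s
        rw [← Scheme.Hom.comp_apply, Over.w h]
        exact hy2
      · rw [← Scheme.Hom.comp_apply, hh', Scheme.Hom.comp_apply]
        rfl

/-- **SGA3 VI_B (neutral component represented by a smooth subgroup with connected fibres)** -/
theorem main5393 [Flat H.hom] [LocallyOfFinitePresentation H.hom] [LocallyOfFiniteType N.hom]
    (hconn : ∀ s : S, _root_.IsConnected (H.hom.base ⁻¹' {s})) (j : H ⟶ N) [IsMonHom j] [Mono j] :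
    (IsOpenImmersion j.left ↔
      ∀ (T : Over S) (g : T ⟶ N), (∃ h : T ⟶ H, h ≫ j = g) ↔
        Set.range g.left.base ⊆ SGA3x.neutralSet N) ∧
    (IsOpenImmersion j.left ↔
      ∀ s : S, IsOpenImmersion ((Over.pullback (S.fromSpecResidueField s)).map j).left ∧
        j.left.base '' (H.hom.base ⁻¹' {s}) = SGA3x.neutralSet N ∩ N.hom.base ⁻¹' {s}) := by
  have h13 : IsOpenImmersion j.left ↔
      ∀ s : S, IsOpenImmersion ((Over.pullback (S.fromSpecResidueField s)).map j).left ∧
        j.left.base '' (H.hom.base ⁻¹' {s}) = SGA3x.neutralSet N ∩ N.hom.base ⁻¹' {s} :=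
    ⟨fun h s => by haveI := h; exact fibres_of_isOpenImmersion hconn j s,
      fun h => isOpenImmersion_of_fibres j fun s => (h s).1⟩
  refine ⟨⟨fun h T g => by haveI := h; exact factors_iff_of_isOpenImmersion hconn j T g,
    fun h => h13.2 fun s => fibres_of_represents j h s⟩, h13⟩

end Groth.Agent.Lib.Helper24.NeutRep
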